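import Cfsg.Agent.Lib.Involutions.Basic
import Cfsg.Agent.Lib.Involutions.Isolated
import Mathlib.GroupTheory.Transfer

/-!
# The odd part of a group in which an involution has a small 2-centraliser
-/

set_option autoImplicit false
set_option linter.unusedSectionVars false
set_option linter.style.haveILetI false

namespace CfsgLib.SelfCentFour

open CfsgLib CfsgLib.Involutions

variable {G : Type*} [Group G] [Finite G]

/-- If the only 2-elements of `K` commuting with the involution `t ∈ K` are `1` and `t`, then the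
elements of odd order of `K` form a subgroup of index two. -/
theorem exists_oddPart (K : Subgroup G) {t : G} (htK : t ∈ K) (ht : orderOf t = 2)
    (h : ∀ x ∈ K, x * t = t * x → (∃ k, orderOf x = 2 ^ k) → x = 1 ∨ x = t) :
    ∃ R : Subgroup G, R ≤ K ∧ Odd (Nat.card R) ∧ Nat.card K = 2 * Nat.card R ∧
      ∀ x, x ∈ R ↔ x ∈ K ∧ Odd (orderOf x) := by
  classical
  haveI : Fact (Nat.Prime 2) := ⟨Nat.prime_two⟩
  set t' : K := ⟨t, htK⟩ with ht'
  have ht'o : orderOf t' = 2 := by rw [ht', Subgroup.orderOf_mk, ht]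
  obtain ⟨S, hS⟩ := (isPGroup_zpowers_of_orderOf_eq (p := 2) (k := 1) (t := t')
    (by rw [pow_one, ht'o]) : IsPGroup 2 (Subgroup.zpowers t')).exists_le_sylow
  have htS : t' ∈ (S : Subgroup K) := hS (Subgroup.mem_zpowers t')
  have hpow : ∀ x : (S : Subgroup K), ∃ k, orderOf ((x : K) : G) = 2 ^ k := fun x => by
    obtain ⟨k, hk⟩ := IsPGroup.iff_orderOf.1 S.isPGroup' x
    exact ⟨k, by rw [Subgroup.orderOf_coe, Subgroup.orderOf_coe, hk]⟩
  haveI hnt : Nontrivial (S : Subgroup K) := by
    refine ⟨⟨⟨t', htS⟩, 1, fun e => ne_one ht ?_⟩⟩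
    exact congrArg Subtype.val (congrArg Subtype.val e)
  haveI := S.isPGroup'.center_nontrivial
  obtain ⟨z, hz1⟩ := exists_ne (1 : Subgroup.center (S : Subgroup K))
  have hzt : (((z : (S : Subgroup K)) : K) : G) * t = t * ((z : (S : Subgroup K)) : K) := by
    have := Subgroup.mem_center_iff.1 z.2 ⟨t', htS⟩
    exact congrArg Subtype.val (congrArg Subtype.val this.symm)
  have hzeq : (((z : (S : Subgroup K)) : K) : G) = t := by
    rcases h _ (SetLike.coe_mem _) hzt (hpow _) with e | e
    · exact absurd (Subtype.ext (Subtype.ext (Subtype.ext e))) hz1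
    · exact e
  have hall : ∀ x : (S : Subgroup K), (x : K) = 1 ∨ (x : K) = t' := by
    intro x
    have hc : ((x : K) : G) * t = t * (x : K) := by
      have := Subgroup.mem_center_iff.1 z.2 x
      rw [← hzeq]
      exact congrArg Subtype.val (congrArg Subtype.val this)
    rcases h _ (SetLike.coe_mem _) hc (hpow _) with e | e
    · exact Or.inl (Subtype.ext e)
    · exact Or.inr (Subtype.ext e)
  have hS2 : (S : Subgroup K) = Subgroup.zpowers t' := by
    refine le_antisymm (fun x hx => ?_) hS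
    rcases hall ⟨x, hx⟩ with e | e
    · rw [show x = 1 from e]; exact one_mem _
    · rw [show x = t' from e]; exact Subgroup.mem_zpowers t'
  have hScard : Nat.card (S : Subgroup K) = 2 := by rw [hS2, Nat.card_zpowers, ht'o]
  have hRcyc : IsCyclic (S : Subgroup K) := isCyclic_of_prime_card (p := 2) hScard
  have hmin : (Nat.card K).minFac = 2 := (Nat.minFac_eq_two_iff _).2
    (hScard ▸ Subgroup.card_subgroup_dvd_card (S : Subgroup K))
  obtain ⟨K0, hK0n, hK0c, hK02⟩ : ∃ L : Subgroup K, L.Normal ∧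
      L.IsComplement' (S : Subgroup K) ∧ ¬ 2 ∣ Nat.card L :=
    ⟨_, MonoidHom.normal_ker _, IsCyclic.isComplement' hmin hRcyc,
      MonoidHom.not_dvd_card_ker_transferSylow S _⟩
  haveI := hK0n
  have hK0odd : Odd (Nat.card K0) := Nat.not_even_iff_odd.1 fun e => hK02 (even_iff_two_dvd.1 e)
  have hcard : Nat.card K = 2 * Nat.card K0 := by
    rw [← hK0c.card_mul_card, hScard, mul_comm]
  have hidx : K0.index = 2 := by
    have h1 := K0.card_mul_index
    rw [hcard, mul_comm 2] at h1
    exact Nat.eq_of_mul_eq_mul_left Nat.card_pos h1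
  refine ⟨K0.map K.subtype, Subgroup.map_subtype_le _, ?_, ?_, fun x => ⟨?_, ?_⟩⟩
  · rw [Subgroup.card_map_of_injective K.subtype_injective]; exact hK0odd
  · rw [Subgroup.card_map_of_injective K.subtype_injective]; exact hcard
  · rintro ⟨y, hy, rfl⟩
    refine ⟨y.2, ?_⟩
    show Odd (orderOf (y : G))
    rw [Subgroup.orderOf_coe]
    exact hK0odd.of_dvd_nat (Subgroup.orderOf_dvd_natCard _ hy)
  · rintro ⟨hx, ho⟩
    refine ⟨⟨x, hx⟩, ?_, rfl⟩
    have hsq : (⟨x, hx⟩ : K) ^ 2 ∈ K0 := hidx ▸ K0.pow_index_mem _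
    obtain ⟨k, hk⟩ := ho
    have e : (⟨x, hx⟩ : K) = ((⟨x, hx⟩ : K) ^ 2) ^ (k + 1) := by
      refine Subtype.ext ?_
      rw [← pow_mul, SubmonoidClass.coe_pow, show 2 * (k + 1) = orderOf x + 1 by omega, pow_succ,
        pow_orderOf_eq_one, one_mul]
    rw [e]
    exact pow_mem hsq _

end CfsgLib.SelfCentFour
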